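import Mathlib

/-!
Finite sharply 2-transitive permutation groups: the fixed-point-free elements together with the
identity form a regular normal elementary abelian subgroup.
-/

namespace CfsgLib.SharpTwo

open MulAction

section

variable {G α : Type*} [Group G] [MulAction G α]

theorem eq_one_of_fix_two (hsharp : ∀ x : Fin 2 ↪ α, stabilizer G x = ⊥) {g : G} {a b : α}
    (hab : a ≠ b) (ha : g • a = a) (hb : g • b = b) : g = 1 := by
  let x : Fin 2 ↪ α := ⟨![a, b], by
    intro i j h
    fin_cases i <;> fin_cases j <;> first | rfl | exact absurd h hab | exact absurd h hab.symm⟩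
  have hg : g ∈ stabilizer G x := by
    rw [mem_stabilizer_iff]
    ext i
    fin_cases i
    · exact ha
    · exact hb
  rwa [hsharp x, Subgroup.mem_bot] at hg

theorem card_group [Finite α] [IsMultiplyPretransitive G α 2]
    (hsharp : ∀ x : Fin 2 ↪ α, stabilizer G x = ⊥) (h2 : 2 ≤ Nat.card α) :
    Nat.card G = Nat.card α * (Nat.card α - 1) := by
  classical
  haveI := Fintype.ofFinite α
  rw [Nat.card_eq_fintype_card] at h2
  obtain ⟨x₀⟩ : Nonempty (Fin 2 ↪ α) :=
    Function.Embedding.nonempty_of_card_le (by simpa using h2)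
  have hbij : Function.Bijective (fun g : G => g • x₀) := by
    refine ⟨fun g h e => ?_, fun y => exists_smul_eq G x₀ y⟩
    have hmem : h⁻¹ * g ∈ stabilizer G x₀ := by
      rw [mem_stabilizer_iff, mul_smul]
      simp only at e
      rw [e, inv_smul_smul]
    rw [hsharp x₀, Subgroup.mem_bot] at hmem
    exact (inv_mul_eq_one.mp hmem).symm
  rw [Nat.card_congr (Equiv.ofBijective _ hbij), Nat.card_eq_fintype_card,
    Fintype.card_embedding_eq, Nat.card_eq_fintype_card (α := α), Fintype.card_fin]
  simp [Nat.descFactorial_succ, Nat.mul_comm]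

theorem card_fixedPointFree [Finite G] [Finite α] [IsMultiplyPretransitive G α 2]
    (hsharp : ∀ x : Fin 2 ↪ α, stabilizer G x = ⊥) (h2 : 2 ≤ Nat.card α) :
    Nat.card {g : G // ∀ a : α, g • a ≠ a} = Nat.card α - 1 := by
  classical
  haveI := Fintype.ofFinite α
  haveI := Fintype.ofFinite G
  haveI : IsPretransitive G α := MulAction.isPretransitive_of_is_two_pretransitive
  haveI : Nonempty α := (Nat.card_pos_iff.mp (by omega)).1
  have hburn := sum_card_fixedBy_eq_card_orbits_mul_card_group G α
  have horb : Fintype.card (orbitRel.Quotient G α) = 1 := by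
    rw [Fintype.card_eq_one_iff_nonempty_unique]
    haveI := (pretransitive_iff_subsingleton_quotient G α).mp inferInstance
    obtain ⟨a⟩ := ‹Nonempty α›
    exact ⟨uniqueOfSubsingleton ⟦a⟧⟩
  rw [horb, one_mul] at hburn
  set D : Finset G := Finset.univ.filter fun g : G => ∀ a : α, g • a ≠ a with hD
  have hval : ∀ g : G, g ≠ 1 → (Fintype.card (fixedBy α g)) + (if g ∈ D then 1 else 0) = 1 := by
    intro g hg
    by_cases hgD : g ∈ D
    · rw [if_pos hgD]
      have hh : ∀ a : α, g • a ≠ a := by simpa [hD] using hgD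
      have : Fintype.card (fixedBy α g) = 0 :=
        Fintype.card_eq_zero_iff.mpr ⟨fun a => hh a a.2⟩
      omega
    · rw [if_neg hgD]
      have hh : ∃ a : α, g • a = a := by
        simp [hD] at hgD
        exact hgD
      obtain ⟨a, ha⟩ := hh
      rw [add_zero, Fintype.card_eq_one_iff]
      refine ⟨⟨a, ha⟩, fun b => Subtype.ext ?_⟩
      by_contra hb
      exact hg (eq_one_of_fix_two hsharp hb b.2 ha)
  have h1D : (1 : G) ∉ D := by
    obtain ⟨a⟩ := ‹Nonempty α›
    simp [hD]
  have hsum : (∑ g : G, (Fintype.card (fixedBy α g) + (if g ∈ D then 1 else 0))) + 1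
      = Fintype.card α + Fintype.card G := by
    rw [← Finset.add_sum_erase _ _ (Finset.mem_univ (1 : G)),
      Finset.sum_congr rfl (fun g hg => hval g (Finset.ne_of_mem_erase hg))]
    simp only [if_neg h1D, Finset.sum_const, smul_eq_mul, mul_one,
      Finset.card_erase_of_mem (Finset.mem_univ _), Finset.card_univ]
    have hfix : Fintype.card (fixedBy α (1 : G)) = Fintype.card α :=
      (set_fintype_card_eq_univ_iff _).mpr (by ext; simp)
    have : 0 < Fintype.card G := Fintype.card_pos
    omega
  rw [Finset.sum_add_distrib, hburn, Finset.sum_ite_mem, Finset.univ_inter, Finset.sum_const,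
    smul_eq_mul, mul_one] at hsum
  rw [Nat.card_eq_fintype_card, Fintype.card_subtype, ← hD, Nat.card_eq_fintype_card]
  omega

/-- The regular normal subgroup. -/
theorem exists_regular_normal [Finite G] [Finite α] [IsMultiplyPretransitive G α 2]
    (hsharp : ∀ x : Fin 2 ↪ α, stabilizer G x = ⊥) (h2 : 2 ≤ Nat.card α) :
    ∃ (p j : ℕ) (N : Subgroup G), p.Prime ∧ 1 ≤ j ∧ Nat.card α = p ^ j ∧ Nat.card N = p ^ j ∧
      N.Normal ∧ (∀ g : G, g ∈ N ↔ g = 1 ∨ ∀ a : α, g • a ≠ a) ∧
      (∀ x ∈ N, ∀ y ∈ N, x * y = y * x) ∧ (∀ x ∈ N, x ^ p = 1) ∧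
      (∀ g ∈ N, ∀ a : α, g • a = a → g = 1) ∧ (∀ a b : α, ∃ g ∈ N, g • a = b) := by
  classical
  have hcardG := card_group (G := G) hsharp h2
  have hcardD := card_fixedPointFree (G := G) hsharp h2
  let D : Set G := {g : G | ∀ a : α, g • a ≠ a}
  have hDcard : D.ncard = Nat.card α - 1 := hcardD
  haveI : Nonempty α := (Nat.card_pos_iff.mp (by omega)).1
  have h1 : (1 : G) ∉ D := fun h => h (Classical.arbitrary α) (one_smul _ _)
  have hins : (insert 1 D : Set G).ncard = Nat.card α := by
    rw [Set.ncard_insert_of_notMem h1, hDcard]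
    omega
  have hDne : D.Nonempty := Set.nonempty_of_ncard_ne_zero (by omega)
  have hconj : ∀ g : G, ∀ x ∈ D, g * x * g⁻¹ ∈ D := by
    intro g x hx a ha
    apply hx (g⁻¹ • a)
    rw [mul_smul, mul_smul] at ha
    conv_rhs => rw [← ha]
    rw [inv_smul_smul]
  have key : ∀ x ∈ D, (Subgroup.centralizer ({x} : Set G) : Set G) = insert 1 D ∧
      ∀ y ∈ D, ∃ g : G, g * x * g⁻¹ = y := by
    intro x hx
    have hsub : (Subgroup.centralizer ({x} : Set G) : Set G) ⊆ insert 1 D := by
      intro g hg
      by_cases hgD : g ∈ D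
      · exact Or.inr hgD
      · refine Or.inl ?_
        simp only [D, Set.mem_setOf_eq, not_forall, not_not] at hgD
        obtain ⟨a, ha⟩ := hgD
        have hc : g * x = x * g := by
          rw [SetLike.mem_coe, Subgroup.mem_centralizer_singleton_iff] at hg
          exact hg
        refine eq_one_of_fix_two hsharp (hx a) ?_ ha
        rw [← mul_smul, hc, mul_smul, ha]
    have hle : (Subgroup.centralizer ({x} : Set G) : Set G).ncard ≤ Nat.card α :=
      hins ▸ Set.ncard_le_ncard hsub
    have horb_sub : orbit (ConjAct G) x ⊆ D := by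
      rintro _ ⟨g, rfl⟩
      simp only [ConjAct.smul_def]
      exact hconj _ _ hx
    have horb_le : (orbit (ConjAct G) x).ncard ≤ Nat.card α - 1 :=
      hDcard ▸ Set.ncard_le_ncard horb_sub
    have hmul : (orbit (ConjAct G) x).ncard *
        (Subgroup.centralizer ({x} : Set G) : Set G).ncard = Nat.card G := by
      have h3 := Subgroup.card_mul_index (stabilizer (ConjAct G) x)
      rw [index_stabilizer, ConjAct.stabilizer_eq_centralizer, Nat.mul_comm] at h3
      exact h3
    rw [hcardG] at hmul
    have hpos : 0 < Nat.card α - 1 := by omega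
    have hC : (Subgroup.centralizer ({x} : Set G) : Set G).ncard = Nat.card α := by
      refine le_antisymm hle ?_
      by_contra hlt
      push Not at hlt
      have : (orbit (ConjAct G) x).ncard * (Subgroup.centralizer ({x} : Set G) : Set G).ncard
          < (Nat.card α - 1) * Nat.card α :=
        lt_of_le_of_lt (Nat.mul_le_mul_right _ horb_le) (Nat.mul_lt_mul_of_pos_left hlt hpos)
      rw [hmul, Nat.mul_comm] at this
      exact lt_irrefl _ this
    refine ⟨Set.eq_of_subset_of_ncard_le hsub (by rw [hC, hins]), fun y hy => ?_⟩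
    have horb : orbit (ConjAct G) x = D := by
      refine Set.eq_of_subset_of_ncard_le horb_sub ?_
      rw [hC, Nat.mul_comm] at hmul
      rw [hDcard]
      exact (Nat.eq_of_mul_eq_mul_left (by omega) hmul).ge
    rw [← horb] at hy
    obtain ⟨g, hg⟩ := hy
    exact ⟨ConjAct.ofConjAct g, hg⟩
  obtain ⟨x, hx⟩ := hDne
  set N := Subgroup.centralizer ({x} : Set G) with hN
  have hmem : ∀ g : G, g ∈ N ↔ g = 1 ∨ ∀ a : α, g • a ≠ a := by
    intro g
    rw [← SetLike.mem_coe, (key x hx).1]
    rfl
  have hcardN : Nat.card N = Nat.card α := by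
    rw [← hins, ← (key x hx).1]
    rfl
  have hNn : N.Normal := by
    refine ⟨fun g hg h => ?_⟩
    rcases (hmem g).mp hg with rfl | hgD
    · simpa using N.one_mem
    · exact (hmem _).mpr (Or.inr (hconj h g hgD))
  have habel : ∀ u ∈ N, ∀ v ∈ N, u * v = v * u := by
    intro u hu v hv
    rcases (hmem v).mp hv with rfl | hvD
    · simp
    · have : u ∈ (Subgroup.centralizer ({v} : Set G) : Set G) := by
        rw [(key v hvD).1, ← (key x hx).1]
        exact hu
      rw [SetLike.mem_coe, Subgroup.mem_centralizer_singleton_iff] at this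
      exact this
  obtain ⟨p, hp, hpdvd⟩ := Nat.exists_prime_and_dvd (n := Nat.card N) (by omega)
  haveI := Fact.mk hp
  obtain ⟨y, hy⟩ := exists_prime_orderOf_dvd_card' p hpdvd
  have hyD : (y : G) ∈ D := by
    rcases (hmem y).mp y.2 with h | h
    · exfalso
      rw [show y = 1 from Subtype.ext h, orderOf_one] at hy
      exact hp.one_lt.ne hy
    · exact h
  have hpow : ∀ u ∈ N, u ^ p = 1 := by
    intro u hu
    rcases (hmem u).mp hu with rfl | huD
    · simp
    · obtain ⟨g, hg⟩ := (key y hyD).2 u huD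
      rw [← hg, conj_pow, show (y : G) ^ p = 1 by
        rw [← SubmonoidClass.coe_pow, ← hy, pow_orderOf_eq_one]; rfl]
      simp
  have hpg : IsPGroup p N := fun u => ⟨1, Subtype.ext (by simpa using hpow u u.2)⟩
  obtain ⟨j, hj⟩ := (IsPGroup.iff_card).mp hpg
  have hsemi : ∀ g ∈ N, ∀ a : α, g • a = a → g = 1 := by
    intro g hg a ha
    rcases (hmem g).mp hg with h | h
    · exact h
    · exact absurd ha (h a)
  refine ⟨p, j, N, hp, ?_, hcardN ▸ hj, hj, hNn, hmem, habel, hpow, hsemi, ?_⟩
  · rcases Nat.eq_zero_or_pos j with rfl | hjp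
    · rw [pow_zero] at hj
      omega
    · exact hjp
  · intro a b
    have hinj : Function.Injective (fun g : N => g • a) := by
      intro g h e
      have e' : ((h : G)⁻¹ * g) • a = a := by
        rw [mul_smul, show (g : G) • a = (h : G) • a from e, inv_smul_smul]
      have := hsemi _ (N.mul_mem (N.inv_mem h.2) g.2) a e'
      exact Subtype.ext (inv_mul_eq_one.mp this).symm
    obtain ⟨g, hg⟩ := (hinj.bijective_of_nat_card_le hcardN.ge).2 b
    exact ⟨g, g.2, hg⟩

end

end CfsgLib.SharpTwo
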